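import Mathlib
import Groth.Agent.Sep12.Basic
import Groth.Agent.FlatMor67.RegularSmooth
import Groth.Agent.Fit14.Props
import Groth.Agent.TFCurv38.ExtOne

/-!
Presentation of differentials of a quotient of a polynomial ring, injectivity of the Jacobian of a
reduced complete intersection, and Fitting ideals of the transposed presentation (rows S16187, S16191–S16193).
-/

set_option autoImplicit false
set_option linter.style.haveILetI false

noncomputable section

universe u v w

open MvPolynomial

namespace Groth.Agent.CI14

section Pres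

variable {R : Type u} [CommRing R] {r : ℕ}

theorem deriv_expand {M : Type v} [AddCommGroup M] [Module R M] [Module (MvPolynomial (Fin r) R) M]
    [IsScalarTower R (MvPolynomial (Fin r) R) M]
    (d : Derivation R (MvPolynomial (Fin r) R) M) (f : MvPolynomial (Fin r) R) :
    d f = ∑ i, pderiv i f • d (X i) := by
  classical
  induction f using MvPolynomial.induction_on with
  | C a =>
    rw [show (C a : MvPolynomial (Fin r) R) = algebraMap R _ a from rfl, d.map_algebraMap]
    simp
  | add p q hp hq => simp only [map_add, hp, hq, add_smul, Finset.sum_add_distrib]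
  | mul_X p n hp =>
    rw [d.leibniz, hp]
    simp only [Derivation.leibniz, pderiv_X, smul_eq_mul, add_smul, Finset.sum_add_distrib,
      Finset.smul_sum, mul_smul]
    congr 1
    rw [Finset.sum_eq_single n]
    · simp
    · intro i _ hi
      simp [Pi.single_eq_of_ne hi.symm]
    · simp

variable {B : Type v} [CommRing B] [Algebra R B]

/-- The column of the Jacobian attached to `f`. -/
def jacCol (φ : MvPolynomial (Fin r) R →ₐ[R] B) (f : MvPolynomial (Fin r) R) : Fin r → B :=
  fun i => φ (pderiv i f)

lemma jacCol_mul (φ : MvPolynomial (Fin r) R →ₐ[R] B) (f g : MvPolynomial (Fin r) R) :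
    jacCol φ (f * g) = φ f • jacCol φ g + φ g • jacCol φ f := by
  ext i
  simp [jacCol, Derivation.leibniz, map_add, map_mul]

variable (φ : MvPolynomial (Fin r) R →ₐ[R] B)

/-- The map sending the `i`-th basis vector to the differential of the `i`-th coordinate. -/
def pres : (Fin r → B) →ₗ[B] Ω[B⁄R] :=
  Fintype.linearCombination B (fun i => KaehlerDifferential.D R B (φ (X i)))

lemma D_eq_pres (f : MvPolynomial (Fin r) R) :
    KaehlerDifferential.D R B (φ f) = pres φ (jacCol φ f) := by
  classical
  induction f using MvPolynomial.induction_on with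
  | C a =>
    rw [show (C a : MvPolynomial (Fin r) R) = algebraMap R _ a from rfl, φ.commutes, Derivation.map_algebraMap]
    simp [pres, jacCol, Fintype.linearCombination_apply]
  | add p q hp hq =>
    rw [map_add, map_add, hp, hq, ← map_add]
    congr 1; ext i; simp [jacCol]
  | mul_X p n hp =>
    rw [map_mul, Derivation.leibniz, hp, jacCol_mul, map_add, map_smul, map_smul]
    congr 2
    have : jacCol φ (X n) = Pi.single n (1 : B) := by
      ext i
      by_cases h : i = n
      · subst h; simp [jacCol]
      · simp [jacCol, pderiv_X_of_ne (Ne.symm h), Pi.single_eq_of_ne h]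
    rw [this, pres, Fintype.linearCombination_apply_single, one_smul]

theorem pres_surjective (hφ : Function.Surjective φ) : Function.Surjective (pres φ) := by
  rw [← LinearMap.range_eq_top, eq_top_iff, ← KaehlerDifferential.span_range_derivation, Submodule.span_le]
  rintro _ ⟨b, rfl⟩
  obtain ⟨f, rfl⟩ := hφ b
  exact ⟨jacCol φ f, (D_eq_pres φ f).symm⟩

theorem ker_pres (hφ : Function.Surjective φ) (S : Set (MvPolynomial (Fin r) R))
    (hker : RingHom.ker φ.toRingHom = Ideal.span S) :
    LinearMap.ker (pres φ) = Submodule.span B (jacCol φ '' S) := by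
  classical
  set N := Submodule.span B (jacCol φ '' S) with hN
  have hkerN : ∀ f, φ f = 0 → jacCol φ f ∈ N := by
    intro f hf
    have : f ∈ Ideal.span S := by rw [← hker]; exact hf
    induction this using Submodule.span_induction with
    | mem x hx => exact Submodule.subset_span ⟨x, hx, rfl⟩
    | zero =>
      have : jacCol φ 0 = 0 := by ext i; simp [jacCol]
      rw [this]; exact zero_mem _
    | add x y hx hy ihx ihy =>
      have : jacCol φ (x + y) = jacCol φ x + jacCol φ y := by ext i; simp [jacCol]
      have hx0 : φ x = 0 := by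
        have : x ∈ RingHom.ker φ.toRingHom := hker ▸ hx
        exact this
      have hy0 : φ y = 0 := by
        have : y ∈ RingHom.ker φ.toRingHom := hker ▸ hy
        exact this
      rw [this]; exact add_mem (ihx hx0) (ihy hy0)
    | smul g x hx ihx =>
      have hx0 : φ x = 0 := by
        have : x ∈ RingHom.ker φ.toRingHom := hker ▸ hx
        exact this
      rw [smul_eq_mul, jacCol_mul, hx0, zero_smul, add_zero]
      exact Submodule.smul_mem _ _ (ihx hx0)
  have hlin : ∀ b, ∃ f, φ f = b := hφ
  choose s hs using hlin
  have hwd : ∀ f, N.mkQ (jacCol φ f) = N.mkQ (jacCol φ (s (φ f))) := by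
    intro f
    rw [Submodule.mkQ_apply, Submodule.mkQ_apply, Submodule.Quotient.eq]
    have : jacCol φ f - jacCol φ (s (φ f)) = jacCol φ (f - s (φ f)) := by ext i; simp [jacCol]
    rw [this]
    exact hkerN _ (by rw [map_sub, hs, sub_self])
  let δ : Derivation R B ((Fin r → B) ⧸ N) :=
    { toLinearMap :=
        { toFun := fun b => N.mkQ (jacCol φ (s b))
          map_add' := fun a b => by
            have h1 := hwd (s a + s b)
            rw [map_add, hs, hs] at h1
            rw [← h1, ← map_add]
            congr 1; ext i; simp [jacCol]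
          map_smul' := fun c a => by
            have h1 := hwd (c • s a)
            rw [map_smul, hs] at h1
            rw [RingHom.id_apply, ← h1, ← LinearMap.map_smul_of_tower N.mkQ]
            congr 1; ext i; simp [jacCol] }
      map_one_eq_zero' := by
        have h1 := hwd 1
        rw [map_one] at h1
        change N.mkQ (jacCol φ (s 1)) = 0
        rw [← h1]
        have : jacCol φ (1 : MvPolynomial (Fin r) R) = 0 := by ext i; simp [jacCol]
        rw [this, map_zero]
      leibniz' := fun a b => by
        have h1 := hwd (s a * s b)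
        rw [map_mul, hs, hs] at h1
        change N.mkQ (jacCol φ (s (a * b))) = a • N.mkQ (jacCol φ (s b)) + b • N.mkQ (jacCol φ (s a))
        rw [← h1, jacCol_mul, hs, hs, map_add, map_smul, map_smul] }
  let L := δ.liftKaehlerDifferential
  have hL : L ∘ₗ pres φ = N.mkQ := by
    refine LinearMap.pi_ext' fun i => LinearMap.ext_ring ?_
    simp only [LinearMap.coe_comp, LinearMap.coe_single, Function.comp_apply]
    rw [pres, Fintype.linearCombination_apply_single, one_smul, Derivation.liftKaehlerDifferential_comp_D]
    change N.mkQ (jacCol φ (s (φ (X i)))) = _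
    rw [← hwd]
    congr 1
    ext j
    by_cases h : j = i
    · subst h; simp [jacCol]
    · simp [jacCol, pderiv_X_of_ne (Ne.symm h), Pi.single_eq_of_ne h]
  refine le_antisymm (fun v hv => ?_) (Submodule.span_le.2 ?_)
  · rw [← Submodule.Quotient.mk_eq_zero, ← Submodule.mkQ_apply, ← hL, LinearMap.comp_apply,
      LinearMap.mem_ker.1 hv, map_zero]
  · rintro _ ⟨f, hf, rfl⟩
    have : f ∈ RingHom.ker φ.toRingHom := hker ▸ Ideal.subset_span hf
    rw [SetLike.mem_coe, LinearMap.mem_ker, ← D_eq_pres]
    rw [show φ f = 0 from this, map_zero]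

end Pres

section Inj

/-- The Jacobian of a reduced complete intersection over a perfect field is injective. -/
theorem jac_injective {k : Type u} [Field k] [PerfectField k] {r c : ℕ} {B : Type u} [CommRing B]
    [Algebra k B] [IsReduced B] (φ : MvPolynomial (Fin r) k →ₐ[k] B) (hφ : Function.Surjective φ)
    (a : Fin c → MvPolynomial (Fin r) k)
    (ha : RingTheory.Sequence.IsRegular (MvPolynomial (Fin r) k) (List.ofFn a))
    (hker : RingHom.ker φ.toRingHom = Ideal.span (Set.range a))
    (v : Fin c → B) (hv : ∀ i, ∑ j, v j * φ (pderiv i (a j)) = 0) : v = 0 := by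
  classical
  suffices h : ∀ q ∈ minimalPrimes B, ∀ j, v j ∈ q by
    funext j
    have : v j ∈ nilradical B := by
      rw [nilradical, Ideal.radical_eq_sInf, Submodule.mem_sInf]
      intro P hP
      haveI := hP.2
      obtain ⟨q, hq, hqP⟩ := Ideal.exists_minimalPrimes_le (bot_le : (⊥ : Ideal B) ≤ P)
      exact hqP (h q hq j)
    exact (mem_nilradical.1 this).eq_zero
  intro q hq
  haveI : q.IsPrime := hq.1.1
  set Q : Ideal (MvPolynomial (Fin r) k) := q.comap φ.toRingHom with hQ
  haveI : Q.IsPrime := Ideal.comap_isPrime _ _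
  let PQ := Localization.AtPrime Q
  let K := Q.ResidueField
  let α := algebraMap (MvPolynomial (Fin r) k) PQ
  have haQ : ∀ j, a j ∈ Q := fun j => by
    have : a j ∈ RingHom.ker φ.toRingHom := hker ▸ Ideal.subset_span ⟨j, rfl⟩
    rw [hQ, Ideal.mem_comap, RingHom.mem_ker.1 this]
    exact zero_mem _
  have hm : IsLocalRing.maximalIdeal PQ = Ideal.span (Set.range (α ∘ a)) := by
    refine le_antisymm ?_ (Ideal.span_le.2 ?_)
    · rw [← Localization.AtPrime.map_eq_maximalIdeal, Ideal.map_le_iff_le_comap]
      intro x hx
      have hbot : IsLocalRing.maximalIdeal (Localization.AtPrime q) = ⊥ := by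
        have hnil : IsLocalRing.maximalIdeal (Localization.AtPrime q) ≤ nilradical _ := by
          rw [nilradical_eq_sInf]
          refine le_sInf fun Q' hQ' => ?_
          haveI : Q'.IsPrime := hQ'
          have h1 : Q'.comap (algebraMap B (Localization.AtPrime q)) ≤ q := by
            intro y hy
            by_contra hyq
            exact hQ'.ne_top (Q'.eq_top_of_isUnit_mem hy
              (IsLocalization.map_units _ (⟨y, hyq⟩ : q.primeCompl)))
          have h2 := le_antisymm h1 (hq.2 ⟨Ideal.comap_isPrime _ _, bot_le⟩ h1)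
          rw [← IsLocalization.map_under q.primeCompl (Localization.AtPrime q) Q', Ideal.under, h2,
            Localization.AtPrime.map_eq_maximalIdeal]
        rwa [nilradical_eq_zero, Ideal.zero_eq_bot, le_bot_iff] at hnil
      have hx0 : algebraMap B (Localization.AtPrime q) (φ x) = 0 := by
        have : algebraMap B (Localization.AtPrime q) (φ x) ∈ IsLocalRing.maximalIdeal (Localization.AtPrime q) := by
          rw [← Localization.AtPrime.map_eq_maximalIdeal]
          exact Ideal.mem_map_of_mem _ hx
        rwa [hbot, Ideal.mem_bot] at this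
      obtain ⟨⟨t, ht⟩, htx⟩ := (IsLocalization.map_eq_zero_iff q.primeCompl _ _).1 hx0
      obtain ⟨t', rfl⟩ := hφ t
      have : t' * x ∈ Ideal.span (Set.range a) := by
        rw [← hker, RingHom.mem_ker]
        simpa using htx
      have h2 := Ideal.mem_map_of_mem α this
      rw [map_mul, Ideal.map_span, ← Set.range_comp] at h2
      rw [Ideal.mem_comap]
      exact (Ideal.unit_mul_mem_iff_mem _ (IsLocalization.map_units PQ (⟨t', ht⟩ : Q.primeCompl))).1 h2
    · rintro _ ⟨j, rfl⟩
      rw [SetLike.mem_coe, ← Localization.AtPrime.map_eq_maximalIdeal]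
      exact Ideal.mem_map_of_mem _ (haQ j)
  have hregPQ : RingTheory.Sequence.IsRegular PQ ((List.ofFn a).map α) := by
    refine RingTheory.Sequence.IsWeaklyRegular.isRegular_of_isLocalization_of_mem PQ Q
      ha.toIsWeaklyRegular ?_
    intro x hx
    obtain ⟨j, rfl⟩ := (List.mem_ofFn' a x).1 hx
    exact haQ j
  have hdim : (c : WithBot ℕ∞) ≤ ringKrullDim PQ := by
    have h1 := ringKrullDim_add_length_eq_ringKrullDim_of_isRegular ((List.ofFn a).map α) hregPQ
    have h2 : Ideal.ofList ((List.ofFn a).map α) = IsLocalRing.maximalIdeal PQ := by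
      rw [hm, Ideal.ofList]
      congr 1
      ext y
      simp
    rw [List.length_map, List.length_ofFn, h2] at h1
    have h3 : ringKrullDim (PQ ⧸ IsLocalRing.maximalIdeal PQ) = 0 :=
      ringKrullDim_eq_zero_of_field (IsLocalRing.ResidueField PQ)
    rw [h3, zero_add] at h1
    exact h1.le
  haveI : IsNoetherianRing PQ := IsLocalization.isNoetherianRing Q.primeCompl _ inferInstance
  have hc : c ≤ Module.finrank (IsLocalRing.ResidueField PQ) (IsLocalRing.CotangentSpace PQ) := by
    rw [← IsLocalRing.spanFinrank_maximalIdeal_eq_finrank_cotangentSpace]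
    exact_mod_cast hdim.trans (ringKrullDim_le_spanFinrank_maximalIdeal PQ)
  have hmem : ∀ j, α (a j) ∈ IsLocalRing.maximalIdeal PQ := fun j =>
    hm ▸ Ideal.subset_span ⟨j, rfl⟩
  let u : Fin c → IsLocalRing.CotangentSpace PQ := fun j =>
    (IsLocalRing.maximalIdeal PQ).toCotangent ⟨α (a j), hmem j⟩
  have hspanR : Submodule.span PQ (Set.range u) = ⊤ := by
    rw [show Set.range u = (IsLocalRing.maximalIdeal PQ).toCotangent ''
        (Set.range fun j => (⟨α (a j), hmem j⟩ : IsLocalRing.maximalIdeal PQ)) by
      rw [← Set.range_comp]; rfl, Submodule.span_image]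
    have htop : Submodule.span PQ (Set.range fun j => (⟨α (a j), hmem j⟩ : IsLocalRing.maximalIdeal PQ)) = ⊤ := by
      apply Submodule.map_injective_of_injective (IsLocalRing.maximalIdeal PQ).injective_subtype
      rw [Submodule.map_span, ← Set.range_comp, Submodule.map_top, Submodule.range_subtype]
      exact hm.symm
    rw [htop, Submodule.map_top, LinearMap.range_eq_top]
    exact Ideal.toCotangent_surjective _
  have hspan : Submodule.span (IsLocalRing.ResidueField PQ) (Set.range u) = ⊤ := by
    rw [eq_top_iff]
    intro x _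
    exact Submodule.span_le_restrictScalars PQ _ _ (hspanR ▸ Submodule.mem_top : x ∈ Submodule.span PQ (Set.range u))
  have hli : LinearIndependent (IsLocalRing.ResidueField PQ) u := by
    refine linearIndependent_of_top_le_span_of_card_eq_finrank hspan.ge (le_antisymm ?_ ?_)
    · simpa using hc
    · exact finrank_le_of_span_eq_top hspan
  intro j
  choose w hw using fun j => hφ (v j)
  let x : PQ := ∑ j, α (w j) * α (a j)
  have hker' : RingHom.ker (algebraMap PQ K) = IsLocalRing.maximalIdeal PQ := IsLocalRing.ker_residue
  have hxm : x ∈ RingHom.ker (algebraMap PQ K) := by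
    rw [hker']
    exact Ideal.sum_mem _ fun j _ => Ideal.mul_mem_left _ _ (hmem j)
  haveI : PerfectField k := inferInstance
  haveI : Algebra.FormallySmooth k K := Sep12.formallySmooth_of_perfectField k K
  haveI : Algebra.FormallySmooth (MvPolynomial (Fin r) k) PQ :=
    Algebra.FormallySmooth.of_isLocalization Q.primeCompl
  haveI : Algebra.FormallySmooth k PQ := Algebra.FormallySmooth.comp k (MvPolynomial (Fin r) k) PQ
  obtain ⟨l, hl⟩ := (Algebra.FormallySmooth.iff_split_injection (R := k) (P := PQ) (A := K)
    IsLocalRing.residue_surjective).1 inferInstance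
  have hzero : KaehlerDifferential.kerCotangentToTensor k PQ K (Ideal.toCotangent _ ⟨x, hxm⟩) = 0 := by
    rw [KaehlerDifferential.kerCotangentToTensor_toCotangent]
    let d : Derivation k (MvPolynomial (Fin r) k) (Ω[PQ⁄k]) :=
      (KaehlerDifferential.D k PQ).compAlgebraMap (MvPolynomial (Fin r) k)
    have hd : ∀ f, KaehlerDifferential.D k PQ (α f) = ∑ i, α (pderiv i f) • d (MvPolynomial.X i) := by
      intro f
      refine (deriv_expand d f).trans (Finset.sum_congr rfl fun i _ => ?_)
      exact (IsScalarTower.algebraMap_smul PQ (pderiv i f) (d (MvPolynomial.X i))).symm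
    have hρ : ∀ i, algebraMap PQ K (∑ j, α (w j) * α (pderiv i (a j))) = 0 := by
      intro i
      have h0 : (∑ j, α (w j) * α (pderiv i (a j))) = α (∑ j, w j * pderiv i (a j)) := by
        simp [map_sum, map_mul]
      rw [h0, ← RingHom.mem_ker, hker', ← Localization.AtPrime.map_eq_maximalIdeal]
      refine Ideal.mem_map_of_mem _ ?_
      rw [hQ, Ideal.mem_comap]
      have : φ.toRingHom (∑ j, w j * pderiv i (a j)) = 0 := by
        simpa [map_sum, map_mul, hw] using hv i
      rw [this]; exact zero_mem _
    have hz : ∀ j, algebraMap PQ K (α (a j)) = 0 := fun j => by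
      rw [← RingHom.mem_ker, hker']; exact hmem j
    have key : ∀ (p : PQ) (ω : Ω[PQ⁄k]), (1 : K) ⊗ₜ[PQ] (p • ω) = algebraMap PQ K p ⊗ₜ ω := by
      intro p ω
      exact (TensorProduct.smul_tmul p (1 : K) ω).symm.trans (by rw [Algebra.smul_def, mul_one])
    have hDx : KaehlerDifferential.D k PQ x =
        ∑ i, (∑ j, α (w j) * α (pderiv i (a j))) • d (MvPolynomial.X i) +
          ∑ j, α (a j) • KaehlerDifferential.D k PQ (α (w j)) := by
      simp only [x]
      rw [map_sum, Finset.sum_congr rfl (fun j _ => Derivation.leibniz _ (α (w j)) (α (a j))), Finset.sum_add_distrib]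
      congr 1
      rw [Finset.sum_congr rfl (fun j _ => show α (w j) • KaehlerDifferential.D k PQ (α (a j)) =
          ∑ i, (α (w j) * α (pderiv i (a j))) • d (MvPolynomial.X i) by
        rw [hd]; exact (Finset.smul_sum (N := Ω[PQ⁄k]) (M := PQ)).trans (Finset.sum_congr rfl fun i _ => (mul_smul (α (w j)) (α (pderiv i (a j))) (d (MvPolynomial.X i))).symm)), Finset.sum_comm]
      exact Finset.sum_congr rfl fun i _ => (Finset.sum_smul (R := PQ) (M := Ω[PQ⁄k]) (f := fun j => α (w j) * α (pderiv i (a j))) (x := d (MvPolynomial.X i))).symm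
    rw [show ((⟨x, hxm⟩ : RingHom.ker (algebraMap PQ K)) : PQ) = x from rfl, hDx]
    rw [TensorProduct.tmul_add, TensorProduct.tmul_sum, TensorProduct.tmul_sum]
    simp only [key, hz, hρ, TensorProduct.zero_tmul, Finset.sum_const_zero, add_zero]
  have hx0 : Ideal.toCotangent _ (⟨x, hxm⟩ : RingHom.ker (algebraMap PQ K)) = 0 := by
    have := LinearMap.congr_fun hl (Ideal.toCotangent _ ⟨x, hxm⟩)
    rw [LinearMap.comp_apply, hzero, map_zero] at this
    exact this.symm
  rw [Ideal.toCotangent_eq_zero] at hx0
  simp only [hker'] at hx0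
  have hsum : ∑ j, IsLocalRing.residue PQ (α (w j)) • u j = 0 := by
    have h1 : (IsLocalRing.maximalIdeal PQ).toCotangent ⟨x, hker' ▸ hxm⟩ = 0 :=
      (Ideal.toCotangent_eq_zero _ _).2 hx0
    rw [← h1]
    have : (⟨x, hker' ▸ hxm⟩ : IsLocalRing.maximalIdeal PQ) = ∑ j, α (w j) • ⟨α (a j), hmem j⟩ :=
      Subtype.ext (by simp [x])
    rw [this, map_sum]
    refine Finset.sum_congr rfl fun j _ => ?_
    rw [LinearMap.map_smul]
    exact algebraMap_smul (IsLocalRing.ResidueField PQ) (α (w j)) (u j)
  have h0 := Fintype.linearIndependent_iff.1 hli _ hsum j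
  rw [IsLocalRing.residue_eq_zero_iff, IsLocalization.AtPrime.to_map_mem_maximal_iff PQ Q] at h0
  rw [← hw j]
  exact h0

end Inj

section Fitting

open CategoryTheory Abelian

variable {B : Type u} [CommRing B] {r c : ℕ} (J : Fin c → (Fin r → B))

/-- The rows of the matrix with columns `J`. -/
def rows : Fin r → (Fin c → B) := fun i j => J j i

/-- The cokernel of the transpose. -/
abbrev Coker : Type u := (Fin c → B) ⧸ Submodule.span B (Set.range (rows J))

theorem ext_one {M : Type u} [AddCommGroup M] [Module B M] (p : (Fin r → B) →ₗ[B] M)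
    (hp : Function.Surjective p) (hker : LinearMap.ker p = Submodule.span B (Set.range J))
    (hinj : ∀ v : Fin c → B, ∑ j, v j • J j = 0 → v = 0) :
    Nonempty (Ext.{u} (ModuleCat.of B M) (ModuleCat.of B B) 1 ≃ₗ[B] Coker J) := by
  classical
  let i : (Fin c → B) →ₗ[B] (Fin r → B) := Fintype.linearCombination B J
  have hi : Function.Injective i := by
    rw [injective_iff_map_eq_zero]
    intro v hv
    exact hinj v (by simpa [i, Fintype.linearCombination_apply] using hv)
  have hex : LinearMap.range i = LinearMap.ker p := by rw [hker, Fintype.range_linearCombination]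
  obtain ⟨e⟩ := TFCurv38.ext_one_equiv (N := B) i p hi hp hex
  let d : ((Fin c → B) →ₗ[B] B) ≃ₗ[B] (Fin c → B) :=
    { toFun := fun f j => f (Pi.single j 1)
      invFun := fun v => Fintype.linearCombination B v
      map_add' := fun f g => rfl
      map_smul' := fun a f => rfl
      left_inv := fun f => by
        refine LinearMap.pi_ext' fun j => LinearMap.ext_ring ?_
        simp [Fintype.linearCombination_apply_single]
      right_inv := fun v => by
        funext j
        simp [Fintype.linearCombination_apply_single] }
  refine ⟨e.trans (Submodule.Quotient.equiv _ _ d ?_)⟩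
  refine le_antisymm ?_ (Submodule.span_le.2 ?_)
  · rintro _ ⟨_, ⟨g, rfl⟩, rfl⟩
    have : d (LinearMap.lcomp B B i g) = ∑ l, g (Pi.single l 1) • rows J l := by
      funext j
      have h1 : J j = ∑ l, J j l • (Pi.single l 1 : Fin r → B) := (pi_eq_sum_univ' (J j))
      show g (i (Pi.single j 1)) = _
      rw [show i (Pi.single j 1) = J j by simp [i, Fintype.linearCombination_apply_single]]
      conv_lhs => rw [h1]
      simp [rows, map_sum, mul_comm]
    show d (LinearMap.lcomp B B i g) ∈ _
    rw [this]
    exact Submodule.sum_mem _ fun l _ => Submodule.smul_mem _ _ (Submodule.subset_span ⟨l, rfl⟩)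
  · rintro _ ⟨l, rfl⟩
    refine ⟨LinearMap.lcomp B B i (LinearMap.proj l), ⟨_, rfl⟩, ?_⟩
    funext j
    show (i (Pi.single j 1)) l = _
    simp [i, Fintype.linearCombination_apply_single, rows]

/-- The Fitting ideal of the cokernel of `J` and of its transpose. -/
theorem fitting_eq {M : Type w} [AddCommGroup M] [Module B M] (p : (Fin r → B) →ₗ[B] M)
    (hp : Function.Surjective p) (hker : LinearMap.ker p = Submodule.span B (Set.range J))
    (hinj : ∀ v : Fin c → B, ∑ j, v j • J j = 0 → v = 0) :
    Fitt.ideal B M (r - c) = Fitt.ideal B (Coker J) 0 := by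
  classical
  rcases subsingleton_or_nontrivial B with hB | hB
  · exact Subsingleton.elim _ _
  have hcr : c ≤ r := by
    refine le_of_fin_injective B (Fintype.linearCombination B J) ?_
    rw [injective_iff_map_eq_zero]
    intro v hv
    exact hinj v (by simpa [Fintype.linearCombination_apply] using hv)
  let x : Fin r → M := fun i => p (Pi.single i 1)
  have hpx : Fintype.linearCombination B x = p := by
    refine LinearMap.pi_ext' fun i => LinearMap.ext_ring ?_
    simp [x, Fintype.linearCombination_apply_single]
  have hx : Submodule.span B (Set.range x) = ⊤ := by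
    rw [← Fintype.range_linearCombination, hpx, LinearMap.range_eq_top]; exact hp
  let y : Fin c → Coker J := fun j => Submodule.Quotient.mk (Pi.single j 1)
  have hpy : Fintype.linearCombination B y = (Submodule.span B (Set.range (rows J))).mkQ := by
    refine LinearMap.pi_ext' fun i => LinearMap.ext_ring ?_
    simp [y, Fintype.linearCombination_apply_single]
  have hy : Submodule.span B (Set.range y) = ⊤ := by
    refine (Fintype.range_linearCombination B (v := y)).symm.trans ?_
    rw [hpy]; exact Submodule.range_mkQ _
  rw [Fit14.ideal_eq_minors_of_span x hx (S := Set.range J) (by rw [Fit14.rels, hpx, hker]),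
    Fit14.ideal_eq_minors_of_span y hy (S := Set.range (rows J))
      (by rw [Fit14.rels, hpy, Submodule.ker_mkQ]),
    Nat.sub_sub_self hcr, Nat.sub_zero]
  refine le_antisymm (Ideal.span_le.2 ?_) (Ideal.span_le.2 ?_)
  · rintro _ ⟨z, e, hz, rfl⟩
    choose σ hσ using hz
    refine Ideal.subset_span ⟨fun b => rows J (e b), σ, fun b => ⟨e b, rfl⟩, ?_⟩
    rw [← Matrix.det_transpose]
    congr 1
    ext a b
    simp [rows, ← hσ]
  · rintro _ ⟨z, e, hz, rfl⟩
    choose σ hσ using hz
    refine Ideal.subset_span ⟨fun b => J (e b), σ, fun b => ⟨e b, rfl⟩, ?_⟩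
    rw [← Matrix.det_transpose]
    congr 1
    ext a b
    simp [rows, ← hσ]

theorem fitting_eq_ext {M : Type u} [AddCommGroup M] [Module B M] (p : (Fin r → B) →ₗ[B] M)
    (hp : Function.Surjective p) (hker : LinearMap.ker p = Submodule.span B (Set.range J))
    (hinj : ∀ v : Fin c → B, ∑ j, v j • J j = 0 → v = 0) :
    Fitt.ideal B M (r - c) = Fitt.ideal B (Ext.{u} (ModuleCat.of B M) (ModuleCat.of B B) 1) 0 := by
  obtain ⟨e⟩ := ext_one J p hp hker hinj
  rw [fitting_eq J p hp hker hinj, Fit14.ideal_congr e.symm]

end Fitting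

end Groth.Agent.CI14
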