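import Mathlib
import Groth.Agent.CI14.Core

/-!
The formal version: a flat `t`-adically complete family of reduced complete intersections over `k[[t]]`
(rows S16191, S16192, S16193).
-/

set_option autoImplicit false
set_option linter.style.haveILetI false

noncomputable section

universe u

open MvPolynomial

namespace Groth.Agent.CI14.Formal

section General

lemma mem_span_singleton_pow_smul_top {S : Type*} [CommRing S] {M : Type*} [AddCommGroup M] [Module S M]
    {s : S} {n : ℕ} {x : M} :
    x ∈ (Ideal.span {s} ^ n • ⊤ : Submodule S M) ↔ ∃ y : M, x = s ^ n • y := by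
  rw [Ideal.span_singleton_pow, Submodule.ideal_span_singleton_smul, Submodule.mem_smul_pointwise_iff_exists]
  constructor
  · rintro ⟨y, -, rfl⟩; exact ⟨y, rfl⟩
  · rintro ⟨y, rfl⟩; exact ⟨y, trivial, rfl⟩

lemma mem_span_singleton_smul {S : Type*} [CommRing S] {M : Type*} [AddCommGroup M] [Module S M]
    {s : S} {n : ℕ} (y : M) : s ^ n • y ∈ (Ideal.span {s} ^ n • ⊤ : Submodule S M) :=
  mem_span_singleton_pow_smul_top.2 ⟨y, rfl⟩

end General

variable (k : Type u) [Field k] (r : ℕ)

/-- The polynomial ring over `k[[t]]`. -/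
abbrev Poly : Type u := MvPolynomial (Fin r) (PowerSeries k)
/-- The ideal generated by the uniformiser. -/
abbrev tI : Ideal (Poly k r) := Ideal.span {MvPolynomial.C (σ := Fin r) (PowerSeries.X (R := k))}
/-- The completed polynomial ring. -/
abbrev Cpl : Type u := AdicCompletion (tI k r) (Poly k r)

/-- The uniformiser in the completed polynomial ring. -/
abbrev tA : (Cpl k r) := algebraMap (PowerSeries k) (Cpl k r) PowerSeries.X

lemma tA_eq : tA k r = algebraMap (Poly k r) (Cpl k r) (C PowerSeries.X) :=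
  IsScalarTower.algebraMap_apply (PowerSeries k) (Poly k r) (Cpl k r) _

lemma algebraMap_eq_of (p : (Poly k r)) : algebraMap (Poly k r) (Cpl k r) p = AdicCompletion.of (tI k r) (Poly k r) p := rfl

lemma exists_approx (x : (Cpl k r)) (n : ℕ) : ∃ p : (Poly k r), tA k r ^ n ∣ x - algebraMap (Poly k r) (Cpl k r) p := by
  obtain ⟨p, hp⟩ := Submodule.mkQ_surjective _ (AdicCompletion.eval (tI k r) (Poly k r) n x)
  refine ⟨p, ?_⟩
  have : x - algebraMap (Poly k r) (Cpl k r) p ∈ ((tI k r) ^ n • ⊤ : Submodule (Poly k r) (Cpl k r)) := by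
    rw [AdicCompletion.pow_smul_top_eq_ker_eval (Submodule.fg_span_singleton _), LinearMap.mem_ker, map_sub,
      algebraMap_eq_of, AdicCompletion.eval_of, hp, sub_self]
  obtain ⟨y, hy⟩ := mem_span_singleton_pow_smul_top.1 this
  exact ⟨y, hy.trans ((Algebra.smul_def ((C PowerSeries.X : Poly k r) ^ n) y).trans (by rw [map_pow, tA_eq]))⟩

lemma dvd_of_dvd_algebraMap (p : (Poly k r)) (n : ℕ) (h : tA k r ^ n ∣ algebraMap (Poly k r) (Cpl k r) p) :
    (C PowerSeries.X : (Poly k r)) ^ n ∣ p := by
  obtain ⟨y, hy⟩ := h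
  have h1 : algebraMap (Poly k r) (Cpl k r) p ∈ ((tI k r) ^ n • ⊤ : Submodule (Poly k r) (Cpl k r)) := by
    rw [hy, tA_eq, ← map_pow, ← Algebra.smul_def]
    exact mem_span_singleton_smul y
  rw [AdicCompletion.pow_smul_top_eq_ker_eval (Submodule.fg_span_singleton _), LinearMap.mem_ker,
    algebraMap_eq_of, AdicCompletion.eval_of, Submodule.mkQ_apply, Submodule.Quotient.mk_eq_zero] at h1
  obtain ⟨z, hz⟩ := mem_span_singleton_pow_smul_top.1 h1
  exact ⟨z, hz⟩

lemma dvd_sub_map_constantCoeff (f : (Poly k r)) :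
    (C PowerSeries.X : (Poly k r)) ∣ f - map (PowerSeries.C (R := k)) (map (PowerSeries.constantCoeff (R := k)) f) := by
  induction f using MvPolynomial.induction_on with
  | C a =>
    obtain ⟨b, hb⟩ : (PowerSeries.X : (PowerSeries k)) ∣ a - PowerSeries.C (PowerSeries.constantCoeff a) :=
      PowerSeries.X_dvd_iff.2 (by simp)
    exact ⟨C b, by rw [map_C, map_C, ← C_sub, ← C_mul, hb]⟩
  | add p q hp hq =>
    rw [map_add, map_add, add_sub_add_comm]
    exact dvd_add hp hq
  | mul_X p n hp =>
    rw [map_mul, map_mul, map_X, map_X, ← sub_mul]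
    exact dvd_mul_of_dvd_left hp _

variable (c : ℕ) (a : Fin c → (Cpl k r)) (B : Type u) [CommRing B] [Algebra (PowerSeries k) B]
  (ψ : (Cpl k r) →ₐ[(PowerSeries k)] B)

/-- The uniformiser in the family. -/
abbrev tB : B := algebraMap (PowerSeries k) B PowerSeries.X

lemma ψ_tA : ψ (tA k r) = tB k B := ψ.commutes _

/-- The restriction of `ψ` to the polynomial ring. -/
def phi : (Poly k r) →ₐ[(PowerSeries k)] B := ψ.comp (IsScalarTower.toAlgHom (PowerSeries k) (Poly k r) (Cpl k r))

lemma phi_apply (p : (Poly k r)) : phi k r B ψ p = ψ (algebraMap (Poly k r) (Cpl k r) p) := rfl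

lemma phi_Ct : phi k r B ψ (C PowerSeries.X) = tB k B := (phi k r B ψ).commutes _

/-- Polynomial lifts of the equations modulo `t^(n+1)`. -/
def lift (n : ℕ) (j : Fin c) : (Poly k r) := (exists_approx k r (a j) (n + 1)).choose

lemma lift_spec (n : ℕ) (j : Fin c) : tA k r ^ (n + 1) ∣ a j - algebraMap (Poly k r) (Cpl k r) (lift k r c a n j) :=
  (exists_approx k r (a j) (n + 1)).choose_spec

/-- Level `n` of the family. -/
abbrev Lvl (n : ℕ) : Type u := B ⧸ Ideal.span {tB k B ^ (n + 1)}

/-- The presentation of level `n`. -/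
def phiL (n : ℕ) : (Poly k r) →ₐ[(PowerSeries k)] Lvl k B n :=
  (Ideal.Quotient.mkₐ (PowerSeries k) _).comp (phi k r B ψ)

lemma phiL_surjective (hψ : Function.Surjective ψ) (n : ℕ) : Function.Surjective (phiL k r B ψ n) := by
  intro b
  obtain ⟨b, rfl⟩ := Ideal.Quotient.mk_surjective b
  obtain ⟨x, rfl⟩ := hψ b
  obtain ⟨p, hp⟩ := exists_approx k r x (n + 1)
  refine ⟨p, ?_⟩
  show Ideal.Quotient.mk _ (ψ (algebraMap (Poly k r) (Cpl k r) p)) = _
  rw [Ideal.Quotient.mk_eq_mk_iff_sub_mem, Ideal.mem_span_singleton, dvd_sub_comm, ← map_sub, ← ψ_tA k r B ψ,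
    ← map_pow]
  exact map_dvd ψ hp

variable (hker : RingHom.ker ψ.toRingHom = Ideal.span (Set.range a))

include hker in
lemma ker_phiL (hψ : Function.Surjective ψ) (n : ℕ) : RingHom.ker (phiL k r B ψ n).toRingHom =
    Ideal.span (Set.range (lift k r c a n) ∪ {(C PowerSeries.X : Poly k r) ^ (n + 1)}) := by
  set G := Ideal.span (Set.range (lift k r c a n) ∪ {(C PowerSeries.X : Poly k r) ^ (n + 1)}) with hG
  have hq : ∀ p : Poly k r, phiL k r B ψ n p = 0 ↔ tB k B ^ (n + 1) ∣ ψ (algebraMap (Poly k r) (Cpl k r) p) := by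
    intro p
    rw [← Ideal.mem_span_singleton, ← Ideal.Quotient.eq_zero_iff_mem]
    rfl
  refine le_antisymm ?_ (Ideal.span_le.2 ?_)
  · intro p hp
    obtain ⟨b, hb⟩ := (hq p).1 hp
    obtain ⟨z, rfl⟩ := hψ b
    have h1 : algebraMap (Poly k r) (Cpl k r) p - tA k r ^ (n + 1) * z ∈ Ideal.span (Set.range a) := by
      rw [← hker, RingHom.mem_ker]
      show ψ _ = 0
      rw [map_sub, map_mul, map_pow, ψ_tA, hb, sub_self]
    obtain ⟨u, hu⟩ := (Ideal.mem_span_range_iff_exists_fun).1 h1
    choose v hv using fun j => exists_approx k r (u j) (n + 1)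
    have h2 : tA k r ^ (n + 1) ∣ algebraMap (Poly k r) (Cpl k r) (p - ∑ j, v j * lift k r c a n j) := by
      have : algebraMap (Poly k r) (Cpl k r) (p - ∑ j, v j * lift k r c a n j) =
          tA k r ^ (n + 1) * z + ∑ j, (u j * (a j - algebraMap (Poly k r) (Cpl k r) (lift k r c a n j)) +
            (u j - algebraMap (Poly k r) (Cpl k r) (v j)) * algebraMap (Poly k r) (Cpl k r) (lift k r c a n j)) := by
        rw [map_sub, map_sum]
        simp only [map_mul, mul_sub, sub_mul, sub_add_sub_cancel, Finset.sum_sub_distrib]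
        rw [hu]
        ring
      rw [this]
      refine dvd_add (dvd_mul_right _ _) (Finset.dvd_sum fun j _ => dvd_add ?_ ?_)
      · exact dvd_mul_of_dvd_right (lift_spec k r c a n j) _
      · exact dvd_mul_of_dvd_left (hv j) _
    obtain ⟨w, hw⟩ := dvd_of_dvd_algebraMap k r _ _ h2
    rw [sub_eq_iff_eq_add] at hw
    rw [hw]
    refine add_mem (Ideal.mul_mem_right _ _ (Ideal.subset_span (Or.inr rfl))) (Ideal.sum_mem _ fun j _ => ?_)
    exact Ideal.mul_mem_left _ _ (Ideal.subset_span (Or.inl ⟨j, rfl⟩))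
  · rintro _ (⟨j, rfl⟩ | rfl)
    · refine (hq _).2 ?_
      have h0 : ψ (a j) = 0 := by
        have : a j ∈ RingHom.ker ψ.toRingHom := hker ▸ Ideal.subset_span ⟨j, rfl⟩
        exact this
      have := map_dvd ψ (lift_spec k r c a n j)
      rwa [map_sub, h0, zero_sub, dvd_neg, map_pow, ψ_tA] at this
    · refine (hq _).2 ?_
      rw [map_pow, ← tA_eq, map_pow, ψ_tA]

lemma dvd_jacCol_sub (f g : Poly k r) (m : ℕ) (h : (C PowerSeries.X : Poly k r) ^ m ∣ f - g) (i : Fin r) :
    tB k B ^ m ∣ jacCol (phi k r B ψ) f i - jacCol (phi k r B ψ) g i := by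
  obtain ⟨z, hz⟩ := h
  refine ⟨phi k r B ψ (pderiv i z), ?_⟩
  rw [jacCol, jacCol, ← map_sub, ← map_sub, hz, ← C_pow, pderiv_C_mul, map_mul, C_pow, map_pow, phi_Ct]

lemma lift_compat {m n : ℕ} (h : m ≤ n) (j : Fin c) :
    (C PowerSeries.X : Poly k r) ^ (m + 1) ∣ lift k r c a m j - lift k r c a n j := by
  refine dvd_of_dvd_algebraMap k r _ _ ?_
  rw [map_sub]
  have h1 := lift_spec k r c a m j
  have h2 := (pow_dvd_pow (tA k r) (by omega : m + 1 ≤ n + 1)).trans (lift_spec k r c a n j)
  have := dvd_sub h2 h1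
  rwa [sub_sub_sub_cancel_left] at this

variable [IsAdicComplete (Ideal.span {tB k B}) B]

lemma exists_jac (j : Fin c) (i : Fin r) :
    ∃ L : B, ∀ n, tB k B ^ (n + 1) ∣ L - jacCol (phi k r B ψ) (lift k r c a n j) i := by
  have key : ∀ {x y : B} {n : ℕ}, x ≡ y [SMOD (Ideal.span {tB k B} ^ n • ⊤ : Submodule B B)] ↔
      tB k B ^ n ∣ x - y := by
    intro x y n
    rw [SModEq.sub_mem, mem_span_singleton_pow_smul_top]
    exact ⟨fun ⟨z, hz⟩ => ⟨z, hz⟩, fun ⟨z, hz⟩ => ⟨z, hz⟩⟩
  obtain ⟨L, hL⟩ := IsPrecomplete.prec (inferInstance : IsPrecomplete (Ideal.span {tB k B}) B)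
    (f := fun n => jacCol (phi k r B ψ) (lift k r c a n j) i) (fun {m n} h => key.2
      ((pow_dvd_pow _ (Nat.le_succ m)).trans (dvd_jacCol_sub k r B ψ _ _ _ (lift_compat k r c a h j) i)))
  refine ⟨L, fun n => ?_⟩
  have h1 := key.1 (hL (n + 1))
  have h2 := dvd_jacCol_sub k r B ψ _ _ _ (lift_compat k r c a (Nat.le_succ n) j) i
  have h3 : tB k B ^ (n + 1) ∣ L - jacCol (phi k r B ψ) (lift k r c a (n + 1) j) i := dvd_sub_comm.1 h1
  have := dvd_sub h3 h2
  rwa [sub_sub, add_sub_cancel] at this

/-- The Jacobian matrix of the family. -/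
def jac (j : Fin c) (i : Fin r) : B := (exists_jac k r c a B ψ j i).choose

lemma jac_spec (j : Fin c) (i : Fin r) (n : ℕ) :
    tB k B ^ (n + 1) ∣ jac k r c a B ψ j i - jacCol (phi k r B ψ) (lift k r c a n j) i :=
  (exists_jac k r c a B ψ j i).choose_spec n

/-- Reduction of a column to level `n`. -/
def red (n : ℕ) (v : Fin r → B) : Fin r → Lvl k B n := fun i => Ideal.Quotient.mk _ (v i)

lemma jacCol_phiL (n : ℕ) (j : Fin c) :
    jacCol (phiL k r B ψ n) (lift k r c a n j) = red k r B n (jac k r c a B ψ j) := by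
  funext i
  show Ideal.Quotient.mk _ (jacCol (phi k r B ψ) (lift k r c a n j) i) = Ideal.Quotient.mk _ (jac k r c a B ψ j i)
  rw [Ideal.Quotient.mk_eq_mk_iff_sub_mem, Ideal.mem_span_singleton, dvd_sub_comm]
  exact jac_spec k r c a B ψ j i n

include hker in
/-- The presentation of the differentials of level `n`. -/
theorem ker_presL (hψ : Function.Surjective ψ) (n : ℕ) :
    LinearMap.ker (pres (phiL k r B ψ n)) =
      Submodule.span (Lvl k B n) (Set.range fun j => red k r B n (jac k r c a B ψ j)) := by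
  rw [ker_pres _ (phiL_surjective k r B ψ hψ n) _ (ker_phiL k r c a B ψ hker hψ n), Set.image_union,
    Submodule.span_union, Set.image_singleton]
  have h0 : jacCol (phiL k r B ψ n) ((C PowerSeries.X : Poly k r) ^ (n + 1)) = 0 := by
    funext i
    rw [jacCol, ← C_pow, pderiv_C, map_zero]
    rfl
  rw [h0, Submodule.span_zero_singleton, sup_bot_eq, ← Set.range_comp]
  congr 1
  congr 1
  funext j
  exact jacCol_phiL k r c a B ψ n j

lemma exists_pres_approx (hψ : Function.Surjective ψ) (x : Ω[B⁄PowerSeries k]) (n : ℕ) :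
    ∃ v, ∃ y, x - pres (phi k r B ψ) v = tB k B ^ n • y := by
  have hx : x ∈ Submodule.span B (Set.range (KaehlerDifferential.D (PowerSeries k) B)) := by
    rw [KaehlerDifferential.span_range_derivation]; trivial
  induction hx using Submodule.span_induction with
  | mem x hx =>
    obtain ⟨b, rfl⟩ := hx
    obtain ⟨z, rfl⟩ := hψ b
    obtain ⟨p, w, hp⟩ := exists_approx k r z n
    refine ⟨jacCol (phi k r B ψ) p, KaehlerDifferential.D _ _ (ψ w), ?_⟩
    rw [← D_eq_pres, ← map_sub, phi_apply, ← map_sub ψ, hp, map_mul, map_pow, ψ_tA, Derivation.leibniz,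
      ← map_pow, Derivation.map_algebraMap, smul_zero, add_zero]
  | zero => exact ⟨0, 0, by simp⟩
  | add x y _ _ hx hy =>
    obtain ⟨v, z, hv⟩ := hx
    obtain ⟨v', z', hv'⟩ := hy
    exact ⟨v + v', z + z', by rw [map_add, add_sub_add_comm, hv, hv', smul_add]⟩
  | smul b x _ hx =>
    obtain ⟨v, z, hv⟩ := hx
    exact ⟨b • v, b • z, by rw [map_smul, ← smul_sub, hv, smul_comm]⟩

include hker in
lemma mem_of_pres_dvd (hψ : Function.Surjective ψ) {n : ℕ} {v : Fin r → B}
    (h : ∃ y, pres (phi k r B ψ) v = tB k B ^ n • y) :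
    ∃ u : Fin c → B, ∀ i, tB k B ^ n ∣ v i - ∑ j, u j * jac k r c a B ψ j i := by
  obtain _ | n := n
  · exact ⟨0, fun i => by simp⟩
  obtain ⟨y, hy⟩ := h
  have h1 : pres (phiL k r B ψ n) (red k r B n v) =
      KaehlerDifferential.map (PowerSeries k) (PowerSeries k) B (Lvl k B n) (pres (phi k r B ψ) v) := by
    simp only [pres, Fintype.linearCombination_apply, map_sum, map_smul, KaehlerDifferential.map_D]
    exact Finset.sum_congr rfl fun i _ => (algebraMap_smul (Lvl k B n) (v i) _)
  have h2 : pres (phiL k r B ψ n) (red k r B n v) = 0 := by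
    rw [h1, hy, map_smul, ← algebraMap_smul (Lvl k B n) (tB k B ^ (n + 1)),
      show algebraMap B (Lvl k B n) (tB k B ^ (n + 1)) = 0 from
        Ideal.Quotient.eq_zero_iff_mem.2 (Ideal.mem_span_singleton_self _), zero_smul]
  rw [← LinearMap.mem_ker, ker_presL k r c a B ψ hker hψ n, Submodule.mem_span_range_iff_exists_fun] at h2
  obtain ⟨u, hu⟩ := h2
  choose w hw using fun j => Ideal.Quotient.mk_surjective (u j)
  refine ⟨w, fun i => ?_⟩
  have := congrFun hu i
  simp only [Finset.sum_apply, Pi.smul_apply, smul_eq_mul, red, ← hw, ← map_mul, ← map_sum] at this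
  rwa [Ideal.Quotient.mk_eq_mk_iff_sub_mem, Ideal.mem_span_singleton, dvd_sub_comm] at this

include hker in
lemma pres_jac_dvd (j : Fin c) (n : ℕ) :
    ∃ y, pres (phi k r B ψ) (jac k r c a B ψ j) = tB k B ^ (n + 1) • y := by
  choose e he using fun i => jac_spec k r c a B ψ j i n
  obtain ⟨z, hz⟩ := lift_spec k r c a n j
  have h0 : ψ (a j) = 0 := by
    have : a j ∈ RingHom.ker ψ.toRingHom := hker ▸ Ideal.subset_span ⟨j, rfl⟩
    exact this
  have hl : phi k r B ψ (lift k r c a n j) = tB k B ^ (n + 1) * (- ψ z) := by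
    have := congrArg ψ hz
    rw [map_sub, h0, zero_sub, map_mul, map_pow, ψ_tA] at this
    rw [phi_apply, mul_neg, ← this, neg_neg]
  refine ⟨pres (phi k r B ψ) e - KaehlerDifferential.D _ _ (ψ z), ?_⟩
  have : jac k r c a B ψ j = jacCol (phi k r B ψ) (lift k r c a n j) + tB k B ^ (n + 1) • e := by
    funext i
    simp [← he i]
  rw [this, map_add, ← D_eq_pres, hl, map_smul, Derivation.leibniz, ← map_pow, Derivation.map_algebraMap,
    smul_zero, add_zero, map_neg, smul_neg, smul_sub]
  abel

/-- Components of `t^n B^r`. -/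
lemma mem_pi_iff {n : ℕ} {v : Fin r → B} :
    v ∈ (Ideal.span {tB k B} ^ n • ⊤ : Submodule B (Fin r → B)) ↔ ∀ i, tB k B ^ n ∣ v i := by
  rw [mem_span_singleton_pow_smul_top]
  constructor
  · rintro ⟨y, rfl⟩ i
    exact ⟨y i, rfl⟩
  · intro h
    choose y hy using h
    exact ⟨y, funext hy⟩

/-- The presentation of the completed module of differentials. -/
def presHat : (Fin r → B) →ₗ[B] AdicCompletion (Ideal.span {tB k B}) (Ω[B⁄PowerSeries k]) :=
  (AdicCompletion.of _ _).comp (pres (phi k r B ψ))

include hker in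
theorem presHat_surjective (hψ : Function.Surjective ψ) : Function.Surjective (presHat k r B ψ) := by
  intro x
  have h : ∀ n, ∃ v, AdicCompletion.eval _ _ n (presHat k r B ψ v) = AdicCompletion.eval _ _ n x := by
    intro n
    obtain ⟨ω, hω⟩ := Submodule.mkQ_surjective _ (AdicCompletion.eval (Ideal.span {tB k B}) (Ω[B⁄PowerSeries k]) n x)
    obtain ⟨v, y, hy⟩ := exists_pres_approx k r B ψ hψ ω n
    refine ⟨v, ?_⟩
    rw [← hω, presHat, LinearMap.comp_apply, AdicCompletion.eval_of, Submodule.mkQ_apply, Submodule.mkQ_apply,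
      Submodule.Quotient.eq]
    rw [← Submodule.neg_mem_iff, neg_sub, hy]
    exact mem_span_singleton_smul y
  choose v hv using h
  have hu : ∀ n, ∃ u : Fin c → B, ∀ i, tB k B ^ n ∣ v (n + 1) i - v n i - ∑ j, u j * jac k r c a B ψ j i := by
    intro n
    refine mem_of_pres_dvd k r c a B ψ hker hψ (v := v (n + 1) - v n) ?_
    rw [← mem_span_singleton_pow_smul_top, map_sub, ← Submodule.Quotient.eq]
    have h1 := hv n
    have h2 := congrArg (AdicCompletion.transitionMap (Ideal.span {tB k B}) (Ω[B⁄PowerSeries k]) n.le_succ) (hv (n + 1))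
    simp only [AdicCompletion.eval_apply, AdicCompletion.transitionMap_comp_eval_apply] at h2
    rw [presHat, LinearMap.comp_apply, AdicCompletion.eval_of] at h1
    rw [presHat, LinearMap.comp_apply] at h2
    exact h2.trans h1.symm
  choose u hu using hu
  let w : ℕ → (Fin r → B) := fun n =>
    v n - ∑ m ∈ Finset.range n, ∑ j, u m j • jac k r c a B ψ j
  have hw : ∀ n i, tB k B ^ n ∣ w (n + 1) i - w n i := by
    intro n i
    have : w (n + 1) i - w n i = v (n + 1) i - v n i - ∑ j, u n j * jac k r c a B ψ j i := by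
      simp only [w, Finset.sum_range_succ, Pi.sub_apply, Pi.add_apply, Finset.sum_apply, Pi.smul_apply, smul_eq_mul]
      ring
    rw [this]; exact hu n i
  have hcauchy : ∀ {m n : ℕ}, m ≤ n → ∀ i, tB k B ^ m ∣ w n i - w m i := by
    intro m n hmn i
    induction n, hmn using Nat.le_induction with
    | base => simp
    | succ n hmn ih =>
      have := dvd_add ((pow_dvd_pow _ hmn).trans (hw n i)) ih
      rwa [sub_add_sub_cancel] at this
  have hlim : ∀ i, ∃ L : B, ∀ n, tB k B ^ n ∣ w n i - L := by
    intro i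
    obtain ⟨L, hL⟩ := IsPrecomplete.prec (inferInstance : IsPrecomplete (Ideal.span {tB k B}) B)
      (f := fun n => w n i) (fun {m n} h => by
        rw [SModEq.sub_mem, mem_span_singleton_pow_smul_top]
        obtain ⟨z, hz⟩ := dvd_sub_comm.1 (hcauchy h i)
        exact ⟨z, hz⟩)
    refine ⟨L, fun n => ?_⟩
    obtain ⟨z, hz⟩ := mem_span_singleton_pow_smul_top.1 (SModEq.sub_mem.1 (hL n))
    exact ⟨z, hz⟩
  choose L hL using hlim
  refine ⟨L, AdicCompletion.ext fun n => ?_⟩
  rw [← AdicCompletion.eval_apply, ← AdicCompletion.eval_apply, ← hv n]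
  simp only [presHat, LinearMap.comp_apply, AdicCompletion.eval_of, Submodule.mkQ_apply]
  rw [Submodule.Quotient.eq, ← map_sub]
  have hd : L - v n = (L - w n) + (-∑ m ∈ Finset.range n, ∑ j, u m j • jac k r c a B ψ j) := by
    simp only [w]; abel
  rw [hd, map_add]
  refine add_mem ?_ ?_
  · have : L - w n ∈ (Ideal.span {tB k B} ^ n • ⊤ : Submodule B (Fin r → B)) :=
      (mem_pi_iff k r B).2 fun i => by
        have := dvd_sub_comm.1 (hL i n)
        exact this
    obtain ⟨y, hy⟩ := mem_span_singleton_pow_smul_top.1 this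
    rw [hy, map_smul]
    exact mem_span_singleton_smul _
  · rw [map_neg, map_sum]
    refine neg_mem (sum_mem fun m _ => ?_)
    rw [map_sum]
    refine sum_mem fun j _ => ?_
    rw [map_smul]
    refine Submodule.smul_mem _ _ ?_
    obtain ⟨y, hy⟩ := pres_jac_dvd k r c a B ψ hker j n
    rw [hy, pow_succ, mul_smul]
    exact mem_span_singleton_smul _

include hker in
theorem ker_presHat [IsNoetherianRing B] (hψ : Function.Surjective ψ) :
    LinearMap.ker (presHat k r B ψ) = Submodule.span B (Set.range (jac k r c a B ψ)) := by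
  refine le_antisymm (fun v hv => ?_) (Submodule.span_le.2 ?_)
  · set N := Submodule.span B (Set.range (jac k r c a B ψ))
    haveI : IsHausdorff (Ideal.span {tB k B}) ((Fin r → B) ⧸ N) :=
      IsHausdorff.of_le_jacobson (Ideal.span {tB k B}) _ (IsAdicComplete.le_jacobson_bot _)
    rw [← Submodule.Quotient.mk_eq_zero]
    refine IsHausdorff.haus (inferInstance : IsHausdorff (Ideal.span {tB k B}) ((Fin r → B) ⧸ N)) _ fun n => ?_
    rw [SModEq.zero]
    have hn := congrArg (AdicCompletion.eval _ _ n) (LinearMap.mem_ker.1 hv)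
    rw [presHat, LinearMap.comp_apply, AdicCompletion.eval_of, map_zero, Submodule.mkQ_apply,
      Submodule.Quotient.mk_eq_zero] at hn
    obtain ⟨u, hu⟩ := mem_of_pres_dvd k r c a B ψ hker hψ (mem_span_singleton_pow_smul_top.1 hn)
    have h1 : v - ∑ j, u j • jac k r c a B ψ j ∈ (Ideal.span {tB k B} ^ n • ⊤ : Submodule B (Fin r → B)) :=
      (mem_pi_iff k r B).2 fun i => by simpa [Finset.sum_apply] using hu i
    obtain ⟨y, hy⟩ := mem_span_singleton_pow_smul_top.1 h1
    have h2 : Submodule.Quotient.mk (p := N) v = tB k B ^ n • Submodule.Quotient.mk y := by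
      rw [← Submodule.Quotient.mk_smul, ← hy, Submodule.Quotient.eq, sub_sub_cancel]
      exact Submodule.sum_mem _ fun j _ => Submodule.smul_mem _ _ (Submodule.subset_span ⟨j, rfl⟩)
    rw [h2]
    exact mem_span_singleton_smul _
  · rintro _ ⟨j, rfl⟩
    rw [SetLike.mem_coe, LinearMap.mem_ker]
    refine AdicCompletion.ext fun n => ?_
    rw [← AdicCompletion.eval_apply, ← AdicCompletion.eval_apply, presHat, LinearMap.comp_apply,
      AdicCompletion.eval_of, map_zero, Submodule.mkQ_apply, Submodule.Quotient.mk_eq_zero]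
    obtain ⟨y, hy⟩ := pres_jac_dvd k r c a B ψ hker j n
    rw [hy, pow_succ, mul_smul]
    exact mem_span_singleton_smul _

variable (hreg : RingTheory.Sequence.IsRegular (Cpl k r ⧸ Ideal.span {tA k r ^ (0 + 1)})
    ((List.ofFn a).map (Ideal.Quotient.mk (Ideal.span {tA k r ^ (0 + 1)}))))

include hker hreg in
/-- Injectivity of the Jacobian on the closed fibre. -/
theorem jac_injective_zero [PerfectField k] [IsReduced (B ⧸ Ideal.span {tB k B})] (hψ : Function.Surjective ψ)
    (v : Fin c → B) (h : ∀ i, tB k B ∣ ∑ j, v j * jac k r c a B ψ j i) (j : Fin c) : tB k B ∣ v j := by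
  classical
  let B0 := Lvl k B 0
  haveI : IsReduced B0 :=
    isReduced_of_injective (Ideal.quotEquivOfEq (show Ideal.span {tB k B ^ (0 + 1)} = Ideal.span {tB k B} by
      rw [zero_add, pow_one])) (RingEquiv.injective _)
  letI : Algebra k B0 := ((algebraMap (PowerSeries k) B0).comp (PowerSeries.C (R := k))).toAlgebra
  let up : MvPolynomial (Fin r) k →+* Poly k r := map (PowerSeries.C (R := k))
  let down : Poly k r →+* MvPolynomial (Fin r) k := map (PowerSeries.constantCoeff (R := k))
  have hdu : ∀ x, down (up x) = x := fun x => by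
    simp only [up, down, map_map]
    rw [show (PowerSeries.constantCoeff (R := k)).comp PowerSeries.C = RingHom.id k from
      RingHom.ext fun y => PowerSeries.constantCoeff_C y, map_id]
  have hCt0 : phiL k r B ψ 0 (C PowerSeries.X) = 0 := by
    show Ideal.Quotient.mk _ (phi k r B ψ (C PowerSeries.X)) = 0
    rw [phi_Ct, Ideal.Quotient.eq_zero_iff_mem, Ideal.mem_span_singleton, zero_add, pow_one]
  let φk : MvPolynomial (Fin r) k →ₐ[k] B0 :=
    { toRingHom := (phiL k r B ψ 0).toRingHom.comp up
      commutes' := fun x => by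
        show phiL k r B ψ 0 (up (C x)) = _
        rw [show up (C x) = algebraMap (PowerSeries k) (Poly k r) (PowerSeries.C x) from map_C _ _,
          AlgHom.commutes]
        rfl }
  have hfac : ∀ f, φk (down f) = phiL k r B ψ 0 f := by
    intro f
    obtain ⟨z, hz⟩ := dvd_sub_map_constantCoeff k r f
    show phiL k r B ψ 0 (up (down f)) = _
    rw [eq_comm, ← sub_eq_zero, ← map_sub, show f - up (down f) = C PowerSeries.X * z from hz, map_mul, hCt0,
      zero_mul]
  have hsurj : Function.Surjective φk := fun b => by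
    obtain ⟨f, rfl⟩ := phiL_surjective k r B ψ hψ 0 b
    exact ⟨_, hfac f⟩
  let ab : Fin c → MvPolynomial (Fin r) k := fun j => down (lift k r c a 0 j)
  have hkerk : RingHom.ker φk.toRingHom = Ideal.span (Set.range ab) := by
    refine le_antisymm (fun x hx => ?_) (Ideal.span_le.2 ?_)
    · have h1 : up x ∈ RingHom.ker (phiL k r B ψ 0).toRingHom := hx
      rw [ker_phiL k r c a B ψ hker hψ 0] at h1
      have h2 := Ideal.mem_map_of_mem down h1
      rw [hdu, Ideal.map_span, Set.image_union, Set.image_singleton, ← Set.range_comp] at h2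
      have h3 : down ((C PowerSeries.X : Poly k r) ^ (0 + 1)) = 0 := by simp [down]
      rw [h3, Ideal.span_union, Ideal.span_singleton_zero, sup_bot_eq] at h2
      exact h2
    · rintro _ ⟨i, rfl⟩
      show φk (down (lift k r c a 0 i)) = 0
      rw [hfac]
      have : lift k r c a 0 i ∈ RingHom.ker (phiL k r B ψ 0).toRingHom := by
        rw [ker_phiL k r c a B ψ hker hψ 0]
        exact Ideal.subset_span (Or.inl ⟨i, rfl⟩)
      exact this
  have hregk : RingTheory.Sequence.IsRegular (MvPolynomial (Fin r) k) (List.ofFn ab) := by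
    let g : MvPolynomial (Fin r) k →+* Cpl k r ⧸ Ideal.span {tA k r ^ (0 + 1)} :=
      (Ideal.Quotient.mk _).comp ((algebraMap (Poly k r) (Cpl k r)).comp up)
    have hgdown : ∀ f, g (down f) = Ideal.Quotient.mk _ (algebraMap (Poly k r) (Cpl k r) f) := by
      intro f
      obtain ⟨z, hz⟩ := dvd_sub_map_constantCoeff k r f
      show Ideal.Quotient.mk _ (algebraMap (Poly k r) (Cpl k r) (up (down f))) = _
      rw [Ideal.Quotient.mk_eq_mk_iff_sub_mem, Ideal.mem_span_singleton, dvd_sub_comm, ← map_sub,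
        show f - up (down f) = C PowerSeries.X * z from hz, map_mul, ← tA_eq, zero_add, pow_one]
      exact dvd_mul_right _ _
    have hg : Function.Bijective g := by
      refine ⟨(injective_iff_map_eq_zero g).2 fun x hx => ?_, fun y => ?_⟩
      · have h1 : tA k r ^ (0 + 1) ∣ algebraMap (Poly k r) (Cpl k r) (up x) := by
          rw [← Ideal.mem_span_singleton, ← Ideal.Quotient.eq_zero_iff_mem]; exact hx
        obtain ⟨z, hz⟩ := dvd_of_dvd_algebraMap k r _ _ h1
        have h2 := congrArg down hz
        rw [hdu] at h2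
        simpa [down] using h2
      · obtain ⟨z, rfl⟩ := Ideal.Quotient.mk_surjective y
        obtain ⟨p, hp⟩ := exists_approx k r z (0 + 1)
        refine ⟨down p, ?_⟩
        rw [hgdown, Ideal.Quotient.mk_eq_mk_iff_sub_mem, Ideal.mem_span_singleton, dvd_sub_comm]
        exact hp
    refine ((AddEquiv.isRegular_congr (e := (RingEquiv.ofBijective g hg).toAddEquiv) ?_).2 hreg)
    rw [List.map_ofFn, List.forall₂_iff_get]
    refine ⟨by simp, fun i hi hi' x => ?_⟩
    simp only [List.get_eq_getElem, List.getElem_ofFn, Function.comp_apply]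
    show g (_ * x) = _ * g x
    rw [map_mul]
    congr 1
    show g (down (lift k r c a 0 _)) = _
    rw [hgdown, Ideal.Quotient.mk_eq_mk_iff_sub_mem, Ideal.mem_span_singleton, dvd_sub_comm]
    exact lift_spec k r c a 0 _
  have key := CI14.jac_injective φk hsurj ab hregk hkerk (fun j => Ideal.Quotient.mk _ (v j)) ?_
  · have := congrFun key j
    rw [Pi.zero_apply, Ideal.Quotient.eq_zero_iff_mem, Ideal.mem_span_singleton, zero_add, pow_one] at this
    exact this
  · intro i
    have hentry : ∀ j, φk (pderiv i (ab j)) = Ideal.Quotient.mk _ (jac k r c a B ψ j i) := by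
      intro j
      show φk (pderiv i (map (PowerSeries.constantCoeff (R := k)) (lift k r c a 0 j))) = _
      rw [pderiv_map, hfac]
      exact congrFun (jacCol_phiL k r c a B ψ 0 j) i
    simp only [hentry, ← map_mul, ← map_sum]
    rw [Ideal.Quotient.eq_zero_iff_mem, Ideal.mem_span_singleton, zero_add, pow_one]
    exact h i

include hker hreg in
/-- Injectivity of the Jacobian on every level. -/
theorem jac_injective_pow [PerfectField k] [IsReduced (B ⧸ Ideal.span {tB k B})] [Module.Flat (PowerSeries k) B]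
    (hψ : Function.Surjective ψ) (n : ℕ) :
    ∀ (v : Fin c → B), (∀ i, tB k B ^ n ∣ ∑ j, v j * jac k r c a B ψ j i) → ∀ j, tB k B ^ n ∣ v j := by
  induction n with
  | zero => simp
  | succ n ih =>
    intro v h
    choose v' hv' using ih v (fun i => (pow_dvd_pow _ n.le_succ).trans (h i))
    have hreg' : IsLeftRegular (tB k B ^ n) := by
      refine IsLeftRegular.pow n ?_
      have h1 : IsSMulRegular (PowerSeries k) (PowerSeries.X : PowerSeries k) := by
        intro x y hxy
        exact mul_left_cancel₀ PowerSeries.X_ne_zero hxy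
      exact IsSMulRegular.of_flat (S := B) h1
    intro j
    obtain ⟨z, hz⟩ := jac_injective_zero k r c a B ψ hker hreg hψ v' (fun i => by
      obtain ⟨w, hw⟩ := h i
      refine ⟨w, hreg' ?_⟩
      show tB k B ^ n * _ = tB k B ^ n * _
      rw [← mul_assoc, ← pow_succ, ← hw, Finset.mul_sum]
      exact Finset.sum_congr rfl fun j _ => by rw [hv' j, mul_assoc]) j
    exact ⟨z, by rw [hv' j, hz, pow_succ, mul_assoc]⟩

include hker hreg in
theorem jac_injective_limit [PerfectField k] [IsReduced (B ⧸ Ideal.span {tB k B})] [Module.Flat (PowerSeries k) B]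
    (hψ : Function.Surjective ψ) (v : Fin c → B) (h : ∑ j, v j • jac k r c a B ψ j = 0) : v = 0 := by
  funext j
  refine IsHausdorff.haus (inferInstance : IsHausdorff (Ideal.span {tB k B}) B) _ fun n => ?_
  rw [SModEq.zero]
  obtain ⟨z, hz⟩ := jac_injective_pow k r c a B ψ hker hreg hψ n v (fun i => by
    have := congrFun h i
    simp only [Finset.sum_apply, Pi.smul_apply, smul_eq_mul, Pi.zero_apply] at this
    rw [this]
    exact dvd_zero _) j
  rw [hz]
  exact mem_span_singleton_smul z

include hker hreg in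
theorem jac_injective_level [PerfectField k] [IsReduced (B ⧸ Ideal.span {tB k B})] [Module.Flat (PowerSeries k) B]
    (hψ : Function.Surjective ψ) (n : ℕ) (v : Fin c → Lvl k B n)
    (h : ∑ j, v j • red k r B n (jac k r c a B ψ j) = 0) : v = 0 := by
  choose w hw using fun j => Ideal.Quotient.mk_surjective (v j)
  funext j
  rw [← hw j, Pi.zero_apply, Ideal.Quotient.eq_zero_iff_mem, Ideal.mem_span_singleton]
  refine jac_injective_pow k r c a B ψ hker hreg hψ (n + 1) w (fun i => ?_) j
  have := congrFun h i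
  simp only [Finset.sum_apply, Pi.smul_apply, smul_eq_mul, Pi.zero_apply, red, ← hw, ← map_mul, ← map_sum] at this
  rwa [Ideal.Quotient.eq_zero_iff_mem, Ideal.mem_span_singleton] at this

end Groth.Agent.CI14.Formal

namespace Groth.Agent.CI14

open TensorProduct

theorem coker_baseChange {B : Type u} [CommRing B] {r c : ℕ} (J : Fin c → (Fin r → B)) (B' : Type u) [CommRing B']
    [Algebra B B'] :
    Nonempty (B' ⊗[B] Coker J ≃ₗ[B'] Coker (fun j i => algebraMap B B' (J j i))) := by
  classical
  let y : Fin c → Coker J := fun j => Submodule.Quotient.mk (Pi.single j 1)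
  have hpy : Fintype.linearCombination B y = (Submodule.span B (Set.range (rows J))).mkQ := by
    refine LinearMap.pi_ext' fun i => LinearMap.ext_ring ?_
    simp [y, Fintype.linearCombination_apply_single]
  have hy : Submodule.span B (Set.range y) = ⊤ := by
    refine (Fintype.range_linearCombination B (v := y)).symm.trans ?_
    rw [hpy]; exact Submodule.range_mkQ _
  let y' : Fin c → B' ⊗[B] Coker J := fun j => 1 ⊗ₜ y j
  have hsurj : Function.Surjective (Fintype.linearCombination B' y') := by
    rw [← LinearMap.range_eq_top]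
    exact (Fintype.range_linearCombination B' (v := y')).trans (Fit14.span_range_one_tmul (R' := B') y hy)
  have hk : LinearMap.ker (Fintype.linearCombination B' y') =
      Submodule.span B' (Set.range (rows fun j i => algebraMap B B' (J j i))) := by
    refine (Fit14.rels_baseChange (R' := B') y hy).symm.trans ?_
    have h1 : (Fit14.rels (R := B) y : Submodule B (Fin c → B)) = Submodule.span B (Set.range (rows J)) := by
      rw [Fit14.rels, hpy, Submodule.ker_mkQ]
    let f := (Algebra.linearMap B B').compLeft (Fin c)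
    have h2 : (fun v => algebraMap B B' ∘ v) '' (Fit14.rels (R := B) y : Set (Fin c → B)) =
        (Submodule.map f (Submodule.span B (Set.range (rows J))) : Set (Fin c → B')) := by
      rw [h1]; rfl
    rw [h2, Submodule.map_span, Submodule.span_span_of_tower, ← Set.range_comp]
    rfl
  exact ⟨((Submodule.quotEquivOfEq _ _ hk.symm).trans
    (LinearMap.quotKerEquivOfSurjective _ hsurj)).symm⟩

end Groth.Agent.CI14
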